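import Mathlib

/-!
# Matrices of the form `r i + s j` with few nonzero entries
-/

set_option autoImplicit false

namespace Cfsg.Agent.Lib.OddChar

theorem sum_matrix_support {I J : Type*} [Fintype I] [Fintype J] [DecidableEq I] [DecidableEq J]
    (r : I → ℂ) (s : J → ℂ) (hm : 0 < Fintype.card I)
    (hmn : Fintype.card I + 2 ≤ Fintype.card J)
    (hfew : (Finset.univ.filter fun p : I × J => r p.1 + s p.2 ≠ 0).card < 2 * Fintype.card I) :
    (∀ i j, r i + s j = 0) ∨ (∃ j₀ a, ∀ i j, r i + s j = if j = j₀ then a else 0) ∨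
      (∃ i₀ a, ∀ i j, r i + s j = if i = i₀ then a else 0) := by
  classical
  set m := Fintype.card I with hm'
  set n := Fintype.card J with hn'
  set N : J → ℕ := fun j => (Finset.univ.filter fun i : I => r i + s j ≠ 0).card with hN
  have htot : (Finset.univ.filter fun p : I × J => r p.1 + s p.2 ≠ 0).card = ∑ j, N j := by
    simp only [hN, Finset.card_filter]
    rw [Fintype.sum_prod_type, Finset.sum_comm]
  have hI : Nonempty I := Fintype.card_pos_iff.1 hm
  obtain ⟨i₁⟩ := hI
  by_cases hr : ∀ i, r i = r i₁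
  · -- the columns are constant
    by_cases h0 : ∀ j, r i₁ + s j = 0
    · exact Or.inl fun i j => by rw [hr i]; exact h0 j
    push Not at h0
    obtain ⟨j₀, hj₀⟩ := h0
    refine Or.inr (Or.inl ⟨j₀, r i₁ + s j₀, fun i j => ?_⟩)
    rw [hr i]
    split
    · next h => rw [h]
    · next h =>
      by_contra hne
      have hfull : ∀ j', r i₁ + s j' ≠ 0 → N j' = m := fun j' hj' => by
        simp only [hN, hm', ← Finset.card_univ (α := I)]
        congr 1
        exact Finset.filter_true_of_mem fun x _ => by rw [hr x]; exact hj'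
      have h2 : N j + N j₀ ≤ ∑ x, N x := by
        rw [← Finset.sum_pair h]
        exact Finset.sum_le_sum_of_subset (Finset.subset_univ _)
      rw [hfull j hne, hfull j₀ hj₀, ← htot] at h2
      omega
  push Not at hr
  obtain ⟨i₂, hi₂⟩ := hr
  have hJ : Nonempty J := Fintype.card_pos_iff.1 (by omega)
  obtain ⟨j₁⟩ := hJ
  by_cases hs : ∀ j, s j = s j₁
  · -- the rows are constant
    by_cases h0 : ∀ i, r i + s j₁ = 0
    · exact Or.inl fun i j => by rw [hs j]; exact h0 i
    push Not at h0
    obtain ⟨i₀, hi₀⟩ := h0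
    refine Or.inr (Or.inr ⟨i₀, r i₀ + s j₁, fun i j => ?_⟩)
    rw [hs j]
    split
    · next h => rw [h]
    · next h =>
      by_contra hne
      have hall : ∀ j', 2 ≤ N j' := fun j' => by
        refine le_trans (le_of_eq (Finset.card_pair h).symm) (Finset.card_le_card ?_)
        intro x hx
        simp only [Finset.mem_insert, Finset.mem_singleton] at hx
        rcases hx with rfl | rfl <;> simp [hs j', hne, hi₀]
      have h2 : ∑ _j : J, 2 ≤ ∑ x, N x := Finset.sum_le_sum fun x _ => hall x
      rw [Finset.sum_const, Finset.card_univ, ← htot, smul_eq_mul, ← hn'] at h2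
      omega
  exfalso
  push Not at hs
  obtain ⟨j₂, hj₂⟩ := hs
  have hone : ∀ j, 1 ≤ N j := by
    intro j
    refine Finset.card_pos.2 ?_
    by_cases h : r i₁ + s j = 0
    · refine ⟨i₂, ?_⟩
      simp only [Finset.mem_filter, Finset.mem_univ, true_and]
      intro h'
      exact hi₂ (by linear_combination h' - h)
    · exact ⟨i₁, by simp [h]⟩
  set S := Finset.univ.filter fun j : J => s j = s j₁ with hS
  set z := (Finset.univ.filter fun i : I => r i + s j₁ = 0).card with hz
  have hcz : N j₁ + z = m := by
    rw [hz, hm', ← Finset.card_univ (α := I), add_comm]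
    simp only [hN]
    exact Finset.card_filter_add_card_filter_not _
  have hin : ∀ j ∈ S, N j = N j₁ := fun j hj => by
    simp only [hN, (Finset.mem_filter.1 hj).2]
  have hout : ∀ j ∈ Sᶜ, max z 1 ≤ N j := fun j hj => by
    refine max_le ?_ (hone j)
    refine Finset.card_le_card fun i hi => ?_
    simp only [Finset.mem_filter, Finset.mem_univ, true_and] at hi ⊢
    intro h'
    have : s j = s j₁ := by linear_combination h' - hi
    exact (Finset.mem_compl.1 hj) (by simp [hS, this])
  have hsum : S.card * N j₁ + Sᶜ.card * max z 1 ≤ ∑ j, N j := by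
    rw [← Finset.sum_add_sum_compl S]
    refine add_le_add (le_of_eq ?_) ?_
    · rw [Finset.sum_congr rfl hin, Finset.sum_const, smul_eq_mul]
    · rw [← smul_eq_mul, ← Finset.sum_const]
      exact Finset.sum_le_sum hout
  have hk1 : 1 ≤ S.card := Finset.card_pos.2 ⟨j₁, by simp [hS]⟩
  have hk2 : 1 ≤ Sᶜ.card := Finset.card_pos.2 ⟨j₂, by simp [hS, hj₂]⟩
  have hk : S.card + Sᶜ.card = n := Finset.card_add_card_compl S
  have hc1 := hone j₁
  rw [← htot] at hsum
  rcases Nat.eq_zero_or_pos z with hz0 | hz0
  · rw [hz0, Nat.max_eq_right (Nat.zero_le 1)] at hsum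
    nlinarith
  · rw [Nat.max_eq_left hz0] at hsum
    rcases le_total z (N j₁) with hle | hle
    · nlinarith
    · nlinarith

end Cfsg.Agent.Lib.OddChar
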